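import Groth.Agent.SkOpenLib.Local
import Groth.Agent.S14435
import Groth.Agent.S5152
import Groth.Agent.CommAlgDim.Integral
import Mathlib

/-! Dimension and depth of a module finite over the base ring, computed upstairs. -/

set_option autoImplicit false
set_option linter.style.haveILetI false
set_option maxHeartbeats 800000

universe u

open IsLocalRing SkOpenLib

namespace RestrictFinLib

section surj

variable {B C : Type u} [CommRing B] [CommRing C] [Algebra B C] (hs : Function.Surjective (algebraMap B C))
  (N : Type u) [AddCommGroup N] [Module B N] [Module C N] [IsScalarTower B C N]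

include hs in
/-- Localised invariants do not see a surjection of rings. -/
theorem sdim_sdep_of_surjective [IsNoetherianRing B] [Module.Finite B N] (P : Ideal C) [P.IsPrime] :
    sdim N (P.comap (algebraMap B C)) = sdim N P ∧ sdep N (P.comap (algebraMap B C)) = sdep N P := by
  let q := P.comap (algebraMap B C)
  let R := Localization.AtPrime q
  let S := Localization.AtPrime P
  let Np := LocalizedModule P.primeCompl N
  letI : Algebra R S := (Localization.localRingHom q P (algebraMap B C) rfl).toAlgebra
  letI : Module R Np := Module.compHom Np (algebraMap R S)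
  haveI : IsScalarTower R S Np := ⟨fun a s x => mul_smul (algebraMap R S a) s x⟩
  haveI : IsScalarTower B R Np := IsScalarTower.of_algebraMap_smul fun a x => by
    show algebraMap R S (algebraMap B R a) • x = a • x
    rw [show algebraMap R S (algebraMap B R a) = algebraMap C S (algebraMap B C a) from
      Localization.localRingHom_to_map q P _ rfl a, algebraMap_smul, algebraMap_smul]
  have hT : Algebra.algebraMapSubmonoid C q.primeCompl = P.primeCompl := by
    ext c
    obtain ⟨b, rfl⟩ := hs c
    refine ⟨?_, fun hb => ⟨b, hb, rfl⟩⟩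
    rintro ⟨b', hb', he⟩ hmem
    exact hb' (show algebraMap B C b' ∈ P from he ▸ hmem)
  haveI : IsLocalizedModule (Algebra.algebraMapSubmonoid C q.primeCompl)
      (LocalizedModule.mkLinearMap P.primeCompl N) := by rw [hT]; infer_instance
  haveI := IsLocalizedModule.restrictScalars (A := C) q.primeCompl (LocalizedModule.mkLinearMap P.primeCompl N)
  obtain ⟨h1, h2⟩ := eq_of_isLocalizedModule q R ((LocalizedModule.mkLinearMap P.primeCompl N).restrictScalars B)
  have hsurj : Function.Surjective (algebraMap R S) := by
    intro z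
    obtain ⟨⟨x, s⟩, hz⟩ := IsLocalization.surj P.primeCompl z
    obtain ⟨a, rfl⟩ := hs x
    obtain ⟨b, hb⟩ := hs (s : C)
    have hbq : b ∈ q.primeCompl := fun h => s.2 (hb ▸ h)
    refine ⟨IsLocalization.mk' R a (⟨b, hbq⟩ : q.primeCompl), ?_⟩
    apply (IsLocalization.map_units S s).mul_left_inj.1
    have htow : ∀ c : B, algebraMap R S (algebraMap B R c) = algebraMap C S (algebraMap B C c) := fun c =>
      Localization.localRingHom_to_map q P _ rfl c
    rw [hz, ← hb, ← htow b, ← map_mul, IsLocalization.mk'_spec, htow a]
  haveI : Module.Finite R Np := Module.Finite.of_isLocalizedModule q.primeCompl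
    ((LocalizedModule.mkLinearMap P.primeCompl N).restrictScalars B)
  haveI : IsNoetherianRing R := IsLocalization.isNoetherianRing q.primeCompl _ inferInstance
  exact ⟨h1.symm.trans (supportDim_of_surjective hsurj Np), h2.symm.trans (depth_of_surjective hsurj Np)⟩

end surj

/-- A localisation of a localised module is the localised module at the contracted prime. -/
theorem eq_localized {A : Type u} [CommRing A] [IsNoetherianRing A] {M : Type u} [AddCommGroup M] [Module A M]
    [Module.Finite A M] (U : Submonoid A) (T : Type u) [CommRing T] [Algebra A T] [IsLocalization U T]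
    {N : Type u} [AddCommGroup N] [Module A N] [Module T N] [IsScalarTower A T N] (g₀ : M →ₗ[A] N)
    [IsLocalizedModule U g₀] (P : Ideal T) [P.IsPrime] :
    sdim N P = sdim M (P.comap (algebraMap A T)) ∧ sdep N P = sdep M (P.comap (algebraMap A T)) := by
  let r := P.comap (algebraMap A T)
  let S := Localization.AtPrime P
  haveI : IsLocalization.AtPrime S r := IsLocalization.isLocalization_isLocalization_atPrime_isLocalization U _ P
  haveI : IsLocalizedModule r.primeCompl ((LocalizedModule.mkLinearMap P.primeCompl N).restrictScalars A ∘ₗ g₀) := by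
    have hUr : ∀ c : U, (c : A) ∈ r.primeCompl := fun c hc =>
      (inferInstance : P.IsPrime).ne_top (Ideal.eq_top_of_isUnit_mem _ hc (IsLocalization.map_units T c))
    let g := LocalizedModule.mkLinearMap P.primeCompl N
    refine ⟨fun c => ?_, fun y => ?_, fun {m m'} h => ?_⟩
    · have hu : IsUnit (algebraMap A S c) := by
        rw [IsScalarTower.algebraMap_apply A T S]
        exact IsLocalization.map_units S (⟨algebraMap A T c, c.2⟩ : P.primeCompl)
      refine (Module.End.isUnit_iff _).2 ?_
      have h : (fun y : LocalizedModule P.primeCompl N => (c : A) • y) = fun y => algebraMap A S c • y :=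
        funext fun y => (algebraMap_smul S (c : A) y).symm
      show Function.Bijective fun y : LocalizedModule P.primeCompl N => (c : A) • y
      rw [h]
      exact ⟨fun a b hab => hu.smul_left_cancel.1 hab, fun z => ⟨hu.unit⁻¹.1 • z, by
        show algebraMap A S c • _ = z
        rw [smul_smul, hu.mul_val_inv, one_smul]⟩⟩
    · obtain ⟨⟨w, s⟩, hw⟩ := IsLocalizedModule.surj P.primeCompl g y
      obtain ⟨⟨m, t⟩, hm⟩ := IsLocalizedModule.surj U g₀ w
      obtain ⟨⟨b, v⟩, hb⟩ := IsLocalization.surj U (s : T)
      change (s : T) * algebraMap A T v = algebraMap A T b at hb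
      change (s : T) • y = g w at hw
      change (t : A) • w = g₀ m at hm
      have hbr : b ∈ r.primeCompl := fun hb' => by
        have h1 : (s : T) * algebraMap A T v ∈ P := hb ▸ hb'
        rcases (inferInstance : P.IsPrime).mem_or_mem h1 with h2 | h2
        · exact s.2 h2
        · exact hUr v h2
      refine ⟨⟨(v : A) • m, ⟨b * t, r.primeCompl.mul_mem hbr (hUr t)⟩⟩, ?_⟩
      show (b * (t : A)) • y = g (g₀ ((v : A) • m))
      rw [map_smul g₀, ← hm, smul_smul, LinearMap.map_smul_of_tower, ← hw, ← algebraMap_smul T (b * (t : A)) y,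
        ← algebraMap_smul T ((v : A) * t), smul_smul, map_mul, map_mul, ← hb]
      refine congrArg (fun z : T => z • y) ?_
      ring
    · change g (g₀ m) = g (g₀ m') at h
      obtain ⟨s, hs⟩ := IsLocalizedModule.exists_of_eq (S := P.primeCompl) h
      obtain ⟨⟨b, v⟩, hb⟩ := IsLocalization.surj U (s : T)
      change (s : T) * algebraMap A T v = algebraMap A T b at hb
      have hbr : b ∈ r.primeCompl := fun hb' => by
        have h1 : (s : T) * algebraMap A T v ∈ P := hb ▸ hb'
        rcases (inferInstance : P.IsPrime).mem_or_mem h1 with h2 | h2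
        · exact s.2 h2
        · exact hUr v h2
      have h1 : g₀ (b • m) = g₀ (b • m') := by
        rw [map_smul, map_smul, ← algebraMap_smul T b, ← hb, mul_comm, mul_smul,
          ← algebraMap_smul T b (g₀ m'), ← hb, mul_comm (s : T), mul_smul]
        exact congrArg _ hs
      obtain ⟨c, hc⟩ := IsLocalizedModule.exists_of_eq (S := U) h1
      refine ⟨⟨(c : A) * b, r.primeCompl.mul_mem (hUr c) hbr⟩, ?_⟩
      show ((c : A) * b) • m = ((c : A) * b) • m'
      rw [mul_smul, mul_smul]
      exact hc
  exact eq_of_isLocalizedModule r S (M := M) ((LocalizedModule.mkLinearMap P.primeCompl N).restrictScalars A ∘ₗ g₀)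

/-- The dimension of the support is the supremum of the local dimensions at maximal ideals. -/
theorem supportDim_eq_iSup {R : Type u} [CommRing R] (N : Type u) [AddCommGroup N] [Module R N] :
    Module.supportDim R N = ⨆ (n : PrimeSpectrum R) (_ : n.asIdeal.IsMaximal), sdim N n.asIdeal := by
  refine le_antisymm ?_ (iSup₂_le fun n _ => ?_)
  · refine iSup_le fun l => ?_
    obtain ⟨n, hn, hle⟩ := l.last.1.asIdeal.exists_le_maximal l.last.1.isPrime.ne_top
    refine le_trans ?_ (le_iSup₂ (f := fun (n : PrimeSpectrum R) (_ : n.asIdeal.IsMaximal) => sdim N n.asIdeal)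
      ⟨n, hn.isPrime⟩ hn)
    haveI := hn.isPrime
    let S := Localization.AtPrime n
    have hin : ∀ i, (l i).1.asIdeal ≤ n := fun i => (show (l i).1.asIdeal ≤ l.last.1.asIdeal from
      l.monotone (Fin.le_last i)).trans hle
    have hdis : ∀ i, Disjoint (n.primeCompl : Set R) ((l i).1.asIdeal : Set R) := fun i =>
      Set.disjoint_left.2 fun a ha ha' => ha (hin i ha')
    have hP : ∀ i, ((l i).1.asIdeal.map (algebraMap R S)).IsPrime := fun i =>
      IsLocalization.isPrime_of_isPrime_disjoint n.primeCompl S _ (l i).1.isPrime (hdis i)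
    have hc : ∀ i, ((l i).1.asIdeal.map (algebraMap R S)).comap (algebraMap R S) = (l i).1.asIdeal := fun i =>
      IsLocalization.under_map_of_isPrime_disjoint n.primeCompl S (l i).1.isPrime (hdis i)
    have hsupp : ∀ i, (⟨_, hP i⟩ : PrimeSpectrum S) ∈ Module.support S (LocalizedModule n.primeCompl N) := by
      intro i
      obtain ⟨x, hx⟩ := Module.mem_support_iff'.1 (l i).2
      refine Module.mem_support_iff'.2 ⟨LocalizedModule.mkLinearMap n.primeCompl N x, fun r hr h0 => ?_⟩
      obtain ⟨⟨a, s⟩, hs⟩ := IsLocalization.surj n.primeCompl r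
      have ha : a ∉ (l i).1.asIdeal := fun ha => hr (((hP i).mem_or_mem (hs ▸ Ideal.mem_map_of_mem _ ha)).resolve_right
        fun hm => (hP i).ne_top (Ideal.eq_top_of_isUnit_mem _ hm (IsLocalization.map_units _ s)))
      have h1 : LocalizedModule.mkLinearMap n.primeCompl N (a • x) = 0 := by
        rw [map_smul, ← algebraMap_smul S a, ← hs, mul_comm, mul_smul, h0, smul_zero]
      obtain ⟨c, hc'⟩ := (IsLocalizedModule.eq_zero_iff n.primeCompl (LocalizedModule.mkLinearMap n.primeCompl N)).1 h1
      refine hx ((c : R) * a) (fun hca => ((l i).1.isPrime.mem_or_mem hca).elim (fun h => c.2 (hin i h)) ha) ?_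
      rw [mul_smul]; exact hc'
    let L : LTSeries (Module.support S (LocalizedModule n.primeCompl N)) :=
      LTSeries.mk l.length (fun i => ⟨⟨_, hP i⟩, hsupp i⟩) fun i j hij => by
        refine lt_of_le_of_ne (show (l i).1.asIdeal.map _ ≤ (l j).1.asIdeal.map _ from
          Ideal.map_mono (l.monotone hij.le)) fun e => (l.strictMono hij).ne ?_
        have e' : (l i).1.asIdeal.map (algebraMap R S) = (l j).1.asIdeal.map (algebraMap R S) :=
          congrArg (fun z => z.1.asIdeal) e
        exact Subtype.ext (PrimeSpectrum.ext (by rw [← hc i, e', hc j]))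
    exact Order.LTSeries.length_le_krullDim L
  · refine Order.krullDim_le_of_strictMono (fun P => ⟨PrimeSpectrum.comap (algebraMap R _) P.1, ?_⟩) ?_
    · obtain ⟨x, hx⟩ := Module.mem_support_iff'.1 P.2
      obtain ⟨⟨m, s⟩, hms⟩ := IsLocalizedModule.surj n.asIdeal.primeCompl
        (LocalizedModule.mkLinearMap n.asIdeal.primeCompl N) x
      refine Module.mem_support_iff'.2 ⟨m, fun r hr h0 => hx (algebraMap R _ (r * s)) ?_ ?_⟩
      · rw [map_mul]
        exact fun h => (P.1.isPrime.mem_or_mem h).elim hr fun hs =>
          P.1.isPrime.ne_top (Ideal.eq_top_of_isUnit_mem _ hs (IsLocalization.map_units _ s))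
      · rw [algebraMap_smul, mul_smul, show (s : R) • x = LocalizedModule.mkLinearMap n.asIdeal.primeCompl N m from hms,
          ← map_smul, h0, map_zero]
    · intro P Q hPQ
      refine lt_of_le_of_ne (show PrimeSpectrum.comap _ P.1 ≤ PrimeSpectrum.comap _ Q.1 from
        Ideal.comap_mono hPQ.le) fun e => hPQ.ne (Subtype.ext ?_)
      exact PrimeSpectrum.localization_comap_injective _ n.asIdeal.primeCompl (congrArg Subtype.val e)

variable {A B : Type u} [CommRing A] [CommRing B] [Algebra A B] (M : Type u) [AddCommGroup M] [Module A M]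
  [Module B M] [IsScalarTower A B M]

theorem supportDim_eq [IsNoetherianRing A] [Module.Finite A M] : Module.supportDim A M = Module.supportDim B M := by
  haveI : Module.Finite B M := Module.Finite.of_restrictScalars_finite A B M
  rw [Module.supportDim_eq_ringKrullDim_quotient_annihilator, Module.supportDim_eq_ringKrullDim_quotient_annihilator]
  let I := Module.annihilator B M
  have hI : Module.annihilator A M = I.comap (algebraMap A B) := by
    ext a
    simp only [I, Ideal.mem_comap, Module.mem_annihilator, algebraMap_smul]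
  rw [hI]
  haveI : Module.Finite A (B ⧸ I) := by
    classical
    obtain ⟨s, hs⟩ := Module.Finite.fg_top (R := A) (M := M)
    let φ : (B ⧸ I) →ₗ[A] (s → M) :=
      (I.restrictScalars A).liftQ (LinearMap.pi fun i : s => (LinearMap.toSpanSingleton B M i.1).restrictScalars A)
        (fun b hb => by
          rw [LinearMap.mem_ker]
          funext i
          exact Module.mem_annihilator.1 hb i.1)
    refine Module.Finite.of_injective φ ((injective_iff_map_eq_zero φ).2 fun z hz => ?_)
    obtain ⟨b, rfl⟩ := Submodule.Quotient.mk_surjective _ z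
    refine (Submodule.Quotient.mk_eq_zero _).2 (Module.mem_annihilator.2 fun m => ?_)
    have hle : (⊤ : Submodule A M) ≤ LinearMap.ker ((LinearMap.lsmul B M b).restrictScalars A) := by
      rw [← hs, Submodule.span_le]
      intro x hx
      exact congrFun hz ⟨x, hx⟩
    exact hle (Submodule.mem_top (x := m))
  let Q := A ⧸ I.comap (algebraMap A B)
  letI : Algebra Q (B ⧸ I) := (Ideal.quotientMap I (algebraMap A B) le_rfl).toAlgebra
  haveI : IsScalarTower A Q (B ⧸ I) := IsScalarTower.of_algebraMap_eq fun a => rfl
  haveI : Module.Finite Q (B ⧸ I) := Module.Finite.of_restrictScalars_finite A Q _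
  exact (CommAlgDim.ringKrullDim_eq_of_integral Q (B ⧸ I) Ideal.quotientMap_injective).symm

variable [IsNoetherianRing A] [Module.Finite A M]

/-- Dimension and depth over the base, when the upper ring is finite. -/
theorem sdim_sdep_finite [Module.Finite A B] (p : Ideal A) [p.IsPrime] :
    (sdim M p = ⨆ (P : PrimeSpectrum B) (_ : P.asIdeal.comap (algebraMap A B) = p), sdim M P.asIdeal) ∧
      sdep M p = ⨅ (P : PrimeSpectrum B) (_ : P.asIdeal.comap (algebraMap A B) = p), sdep M P.asIdeal := by
  haveI : IsNoetherianRing B := IsNoetherianRing.of_finite A B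
  haveI : Module.Finite B M := Module.Finite.of_restrictScalars_finite A B M
  let U := Algebra.algebraMapSubmonoid B p.primeCompl
  let R := Localization.AtPrime p
  let T := Localization U
  let N := LocalizedModule U M
  let g₀ := LocalizedModule.mkLinearMap U M
  letI : Algebra R T := localizationAlgebra p.primeCompl B
  haveI : IsScalarTower A R T := isScalarTower_localizationAlgebra _ _
  letI : Module R N := Module.compHom N (algebraMap R T)
  haveI : IsScalarTower R T N := ⟨fun a s x => mul_smul (algebraMap R T a) s x⟩
  haveI : IsScalarTower A R N := IsScalarTower.of_algebraMap_smul fun a x => by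
    show algebraMap R T (algebraMap A R a) • x = a • x
    rw [← IsScalarTower.algebraMap_apply A R T, algebraMap_smul]
  haveI := IsLocalizedModule.restrictScalars (A := B) p.primeCompl g₀
  haveI : Module.Finite R T := Module.Finite.of_isLocalization A B p.primeCompl
  haveI : Module.Finite R N := Module.Finite.of_isLocalizedModule p.primeCompl (g₀.restrictScalars A)
  haveI : IsNoetherianRing R := IsLocalization.isNoetherianRing p.primeCompl _ inferInstance
  haveI : IsNoetherianRing T := IsNoetherianRing.of_finite R T
  haveI : Module.Finite T N := Module.Finite.of_restrictScalars_finite R T N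
  obtain ⟨h1, h2⟩ := eq_of_isLocalizedModule p R (g₀.restrictScalars A)
  rw [← h1, ← h2, supportDim_eq (A := R) (B := T) N, supportDim_eq_iSup]
  have hdep : LocCoh.depth R N = LocCoh.idealDepth ((maximalIdeal R).map (algebraMap R T)) N :=
    Groth.Agent.S14435.result (A := R) (B := T) (maximalIdeal R) le_rfl N
  rw [hdep, Groth.Agent.S5152.result T _ N]
  have hmax : ∀ Q : PrimeSpectrum T, (maximalIdeal R).map (algebraMap R T) ≤ Q.asIdeal ↔ Q.asIdeal.IsMaximal := by
    intro Q
    rw [Ideal.map_le_iff_le_comap]
    refine ⟨fun h => ?_, fun h => ?_⟩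
    · haveI : (Q.asIdeal.comap (algebraMap R T)).IsMaximal := by
        rw [← (maximalIdeal.isMaximal R).eq_of_le (Q.isPrime.comap _).ne_top h]; infer_instance
      exact Ideal.isMaximal_of_isIntegral_of_isMaximal_comap (R := R) Q.asIdeal inferInstance
    · haveI := h
      have hM : (Q.asIdeal.comap (algebraMap R T)).IsMaximal :=
        Ideal.isMaximal_comap_of_isIntegral_of_isMaximal (R := R) Q.asIdeal
      exact (IsLocalRing.eq_maximalIdeal hM).ge
  have hover : ∀ Q : PrimeSpectrum T, Q.asIdeal.IsMaximal ↔
      (Q.asIdeal.comap (algebraMap B T)).comap (algebraMap A B) = p := by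
    intro Q
    rw [← hmax, Ideal.map_le_iff_le_comap, Ideal.comap_comap, ← IsScalarTower.algebraMap_eq,
      IsScalarTower.algebraMap_eq A R T, ← Ideal.comap_comap]
    refine ⟨fun h => ?_, fun h => ?_⟩
    · rw [← (maximalIdeal.isMaximal R).eq_of_le (Q.isPrime.comap _).ne_top h]
      exact Localization.AtPrime.under_maximalIdeal
    · rw [← IsLocalization.map_under p.primeCompl R (Q.asIdeal.comap (algebraMap R T))]
      rw [show (Q.asIdeal.comap (algebraMap R T)).under A = p from h, Localization.AtPrime.map_eq_maximalIdeal]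
  have hlift : ∀ P : PrimeSpectrum B, P.asIdeal.comap (algebraMap A B) = p →
      ∃ Q : PrimeSpectrum T, Q.asIdeal.IsMaximal ∧ Q.asIdeal.comap (algebraMap B T) = P.asIdeal := by
    intro P hP
    have hdis : Disjoint (U : Set B) (P.asIdeal : Set B) := Set.disjoint_left.2 fun b hb hbP => by
      obtain ⟨a, ha, rfl⟩ := hb
      exact ha (hP ▸ (hbP : a ∈ P.asIdeal.comap (algebraMap A B)))
    refine ⟨⟨_, IsLocalization.isPrime_of_isPrime_disjoint U T _ P.isPrime hdis⟩, ?_,
      IsLocalization.under_map_of_isPrime_disjoint U T P.isPrime hdis⟩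
    rw [hover]
    exact (congrArg (Ideal.comap (algebraMap A B))
      (IsLocalization.under_map_of_isPrime_disjoint U T P.isPrime hdis)).trans hP
  constructor
  · refine le_antisymm (iSup₂_le fun Q hQ => ?_) (iSup₂_le fun P hP => ?_)
    · rw [(eq_localized U T g₀ Q.asIdeal).1]
      exact le_iSup₂ (f := fun (P : PrimeSpectrum B) (_ : P.asIdeal.comap (algebraMap A B) = p) => sdim M P.asIdeal)
        (PrimeSpectrum.comap (algebraMap B T) Q) ((hover Q).1 hQ)
    · obtain ⟨Q, hQ, hQP⟩ := hlift P hP
      refine le_trans ?_ (le_iSup₂ (f := fun (n : PrimeSpectrum T) (_ : n.asIdeal.IsMaximal) => sdim N n.asIdeal) Q hQ)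
      rw [(eq_localized U T g₀ Q.asIdeal).1]
      obtain rfl : P = PrimeSpectrum.comap (algebraMap B T) Q := PrimeSpectrum.ext hQP.symm
      exact le_rfl
  · refine le_antisymm (le_iInf₂ fun P hP => ?_) (le_iInf₂ fun Q hQ => ?_)
    · obtain ⟨Q, hQ, hQP⟩ := hlift P hP
      refine (iInf₂_le Q ((hmax Q).2 hQ)).trans ?_
      rw [show LocCoh.depth _ (LocalizedModule Q.asIdeal.primeCompl N) = sdep N Q.asIdeal from rfl,
        (eq_localized U T g₀ Q.asIdeal).2]
      obtain rfl : P = PrimeSpectrum.comap (algebraMap B T) Q := PrimeSpectrum.ext hQP.symm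
      exact le_rfl
    · rw [show LocCoh.depth _ (LocalizedModule Q.asIdeal.primeCompl N) = sdep N Q.asIdeal from rfl,
        (eq_localized U T g₀ Q.asIdeal).2]
      exact iInf₂_le (PrimeSpectrum.comap (algebraMap B T) Q) ((hover Q).1 ((hmax Q).1 hQ))

/-- Dimension and depth over the base, as supremum and infimum over the support upstairs. -/
theorem sdim_sdep [IsNoetherianRing B] (p : Ideal A) [p.IsPrime] :
    (sdim M p = ⨆ q ∈ {q : PrimeSpectrum B | q.asIdeal.comap (algebraMap A B) = p ∧ q ∈ Module.support B M},
        sdim M q.asIdeal) ∧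
      sdep M p = ⨅ q ∈ {q : PrimeSpectrum B | q.asIdeal.comap (algebraMap A B) = p ∧ q ∈ Module.support B M},
        sdep M q.asIdeal := by
  haveI : Module.Finite B M := Module.Finite.of_restrictScalars_finite A B M
  let I := Module.annihilator B M
  let C := B ⧸ I
  letI : Module C M := Module.IsTorsionBySet.module (I := I) fun m a => Module.mem_annihilator.1 a.2 m
  haveI : IsScalarTower B C M := ⟨fun b c m => by
    obtain ⟨c, rfl⟩ := Ideal.Quotient.mk_surjective c
    show (b * c) • m = b • (c • m)
    rw [mul_smul]⟩
  haveI : IsScalarTower A C M := IsScalarTower.of_algebraMap_smul fun a m => by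
    show algebraMap A B a • m = a • m
    rw [algebraMap_smul]
  haveI : Module.Finite A C := by
    classical
    obtain ⟨s, hs⟩ := Module.Finite.fg_top (R := A) (M := M)
    let φ : C →ₗ[A] (s → M) :=
      (I.restrictScalars A).liftQ (LinearMap.pi fun i : s => (LinearMap.toSpanSingleton B M i.1).restrictScalars A)
        (fun b hb => by
          rw [LinearMap.mem_ker]
          funext i
          exact Module.mem_annihilator.1 hb i.1)
    refine Module.Finite.of_injective φ ((injective_iff_map_eq_zero φ).2 fun z hz => ?_)
    obtain ⟨b, rfl⟩ := Submodule.Quotient.mk_surjective _ z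
    refine (Submodule.Quotient.mk_eq_zero _).2 (Module.mem_annihilator.2 fun m => ?_)
    have hle : (⊤ : Submodule A M) ≤ LinearMap.ker ((LinearMap.lsmul B M b).restrictScalars A) := by
      rw [← hs, Submodule.span_le]
      intro x hx
      exact congrFun hz ⟨x, hx⟩
    exact hle (Submodule.mem_top (x := m))
  have hs : Function.Surjective (algebraMap B C) := Ideal.Quotient.mk_surjective
  haveI : Module.Finite B M := inferInstance
  obtain ⟨h1, h2⟩ := sdim_sdep_finite (A := A) (B := C) M p
  rw [h1, h2]
  have hmem : ∀ P : PrimeSpectrum C, P.asIdeal.comap (algebraMap A C) = p →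
      PrimeSpectrum.comap (algebraMap B C) P ∈
        {q : PrimeSpectrum B | q.asIdeal.comap (algebraMap A B) = p ∧ q ∈ Module.support B M} := fun P hP =>
    ⟨(Ideal.comap_comap _ _).trans hP, Module.mem_support_iff_of_finite.2 fun b hb => by
      show Ideal.Quotient.mk I b ∈ P.asIdeal
      rw [Ideal.Quotient.eq_zero_iff_mem.2 hb]; exact P.asIdeal.zero_mem⟩
  have hex : ∀ q : PrimeSpectrum B,
      q ∈ {q : PrimeSpectrum B | q.asIdeal.comap (algebraMap A B) = p ∧ q ∈ Module.support B M} →
      ∃ P : PrimeSpectrum C, P.asIdeal.comap (algebraMap A C) = p ∧ q = PrimeSpectrum.comap (algebraMap B C) P := by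
    rintro q ⟨hq, hqs⟩
    have hle : I ≤ q.asIdeal := Module.mem_support_iff_of_finite.1 hqs
    let P : PrimeSpectrum C := ⟨q.asIdeal.map (Ideal.Quotient.mk I),
      Ideal.map_isPrime_of_surjective (f := Ideal.Quotient.mk I) Ideal.Quotient.mk_surjective (by rwa [Ideal.mk_ker])⟩
    have hc : PrimeSpectrum.comap (algebraMap B C) P = q := PrimeSpectrum.ext (by
      show (q.asIdeal.map (Ideal.Quotient.mk I)).comap (Ideal.Quotient.mk I) = q.asIdeal
      rw [Ideal.comap_map_quotientMk, sup_eq_right.2 hle])
    refine ⟨P, ?_, hc.symm⟩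
    rw [← hq, ← hc]
    exact (Ideal.comap_comap _ _).symm
  constructor
  · refine le_antisymm (iSup₂_le fun P hP => ?_) (iSup₂_le fun q hq => ?_)
    · exact ((sdim_sdep_of_surjective hs M P.asIdeal).1.symm.le).trans
        (le_iSup₂ (f := fun (q : PrimeSpectrum B) (_ : q ∈ {q : PrimeSpectrum B | q.asIdeal.comap (algebraMap A B) = p ∧
          q ∈ Module.support B M}) => sdim M q.asIdeal) (PrimeSpectrum.comap (algebraMap B C) P) (hmem P hP))
    · obtain ⟨P, hP, rfl⟩ := hex q hq
      exact ((sdim_sdep_of_surjective hs M P.asIdeal).1.le).trans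
        (le_iSup₂ (f := fun (P : PrimeSpectrum C) (_ : P.asIdeal.comap (algebraMap A C) = p) => sdim M P.asIdeal) P hP)
  · refine le_antisymm (le_iInf₂ fun q hq => ?_) (le_iInf₂ fun P hP => ?_)
    · obtain ⟨P, hP, rfl⟩ := hex q hq
      exact (iInf₂_le P hP).trans (sdim_sdep_of_surjective hs M P.asIdeal).2.ge
    · exact (iInf₂_le (PrimeSpectrum.comap (algebraMap B C) P) (hmem P hP)).trans
        (sdim_sdep_of_surjective hs M P.asIdeal).2.le

end RestrictFinLib
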